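import Groth.Agent.L04.Depth2
import Groth.Agent.L06.FlatFibre
import Groth.Agent.L22.DimFormula

/-!
# Regular sequences from the base, retracts, and `(S_k)` at primes over a prime of the base
-/

set_option autoImplicit false
universe u

open RingTheory.Sequence Ideal

noncomputable section

namespace Groth.L04.Conormal

variable {R S : Type u} [CommRing R] [CommRing S] [Algebra R S] [IsNoetherianRing S]
  {M : Type u} [AddCommGroup M] [Module R M] [Module S M] [IsScalarTower R S M] [Module.Finite S M]

/-- A regular sequence can be chosen from the base ring. -/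
theorem exists_regular_of_le_idealDepth (a : Ideal R) (d : ℕ)
    (h : (d : ℕ∞) ≤ LocCoh.idealDepth (a.map (algebraMap R S)) M) :
    ∃ rs : List R, rs.length = d ∧ (∀ r ∈ rs, r ∈ a) ∧ IsWeaklyRegular M rs := by
  suffices ∀ j ≤ d, ∃ rs : List R, rs.length = j ∧ (∀ r ∈ rs, r ∈ a) ∧
      IsWeaklyRegular M (rs.map (algebraMap R S)) by
    obtain ⟨rs, h1, h2, h3⟩ := this d le_rfl
    exact ⟨rs, h1, h2, (isWeaklyRegular_map_algebraMap_iff S M rs).1 h3⟩
  intro j
  induction j with
  | zero => exact fun _ => ⟨[], rfl, by simp, IsWeaklyRegular.nil S M⟩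
  | succ j ih =>
    intro hj
    obtain ⟨rs, hlen, hra, hrs⟩ := ih (by omega)
    by_cases hreg : ∃ r ∈ a, IsSMulRegular
        (M ⧸ Ideal.ofList (rs.map (algebraMap R S)) • (⊤ : Submodule S M)) (algebraMap R S r)
    · obtain ⟨r, hr, hreg⟩ := hreg
      refine ⟨rs ++ [r], by simp [hlen], ?_, ?_⟩
      · intro x hx
        rcases List.mem_append.1 hx with hx | hx
        · exact hra x hx
        · rw [List.mem_singleton.1 hx]; exact hr
      · rw [List.map_append, isWeaklyRegular_append_iff]
        refine ⟨hrs, ?_⟩
        rw [List.map_singleton, isWeaklyRegular_cons_iff]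
        exact ⟨hreg, IsWeaklyRegular.nil _ _⟩
    · exfalso
      push Not at hreg
      set M' := M ⧸ Ideal.ofList (rs.map (algebraMap R S)) • (⊤ : Submodule S M)
      have hfin : (associatedPrimes S M').Finite := associatedPrimes.finite S M'
      have hsub : (a : Set R) ⊆ ⋃ P ∈ (hfin.toFinset : Set (Ideal S)),
          ((P.comap (algebraMap R S) : Ideal R) : Set R) := fun r hr => by
        have hr' : algebraMap R S r ∈ ⋃ P ∈ associatedPrimes S M', (P : Set S) := by
          rw [biUnion_associatedPrimes_eq_compl_regular]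
          exact hreg r hr
        obtain ⟨P, hP, hrP⟩ := Set.mem_iUnion₂.1 hr'
        exact Set.mem_iUnion₂.2 ⟨P, hfin.mem_toFinset.2 hP, hrP⟩
      obtain ⟨P, hP, haP⟩ := (Ideal.subset_union_prime ⊥ ⊥ fun Q hQ _ _ => by
        haveI : Q.IsPrime := (hfin.mem_toFinset.1 hQ).isPrime
        exact Ideal.IsPrime.comap _).1 hsub
      obtain ⟨hPp, z, hz⟩ := isAssociatedPrime_iff.1 (hfin.mem_toFinset.1 hP)
      have hz0 : z ≠ 0 := by
        rintro rfl
        refine hPp.ne_top (hz.trans (eq_top_iff.2 fun b _ => Submodule.mem_colon_singleton.2 (by simp)))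
      have heq := idealDepth_eq_length (I := a.map (algebraMap R S)) hrs (fun r hr => by
        obtain ⟨r', hr', rfl⟩ := List.mem_map.1 hr
        exact Ideal.mem_map_of_mem _ (hra r' hr')) hz0 (fun b hb => by
        have hbP : b ∈ P := Ideal.map_le_iff_le_comap.2 haP hb
        rw [hz, Submodule.mem_colon_singleton, Submodule.mem_bot] at hbP
        exact hbP)
      rw [heq, List.length_map, hlen] at h
      have : d ≤ j := by exact_mod_cast h
      omega

omit [IsNoetherianRing S] in
/-- Weakly regular sequences pass to retracts. -/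
theorem isWeaklyRegular_retract {N M : Type u} [AddCommGroup N] [Module R N] [AddCommGroup M] [Module R M]
    (i : N →ₗ[R] M) (π : M →ₗ[R] N) (hπ : ∀ x, π (i x) = x) {rs : List R} (h : IsWeaklyRegular M rs) :
    IsWeaklyRegular N rs := by
  rw [isWeaklyRegular_iff_Fin] at h ⊢
  intro k
  have hk := h k
  rw [isSMulRegular_quotient_iff_mem_of_smul_mem] at hk ⊢
  intro x hx
  have hmap : ∀ (f : N →ₗ[R] M), ∀ J : Ideal R, ∀ y ∈ J • (⊤ : Submodule R N), f y ∈ J • (⊤ : Submodule R M) :=
    fun f J y hy => by
      have := Submodule.mem_map_of_mem (f := f) hy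
      rw [Submodule.map_smul''] at this
      exact Submodule.smul_mono le_rfl le_top this
  have h2 := hk (i x) (map_smul i (rs[k.1]) x ▸ hmap i _ _ hx)
  have h3 := Submodule.mem_map_of_mem (f := π) h2
  rw [Submodule.map_smul'', hπ] at h3
  exact Submodule.smul_mono le_rfl le_top h3

omit [Module R M] [Module S M] [AddCommGroup M] in
/-- `(S_r)` and a height bound at the primes over `p` give depth over `pA_p` for the localisation. -/
theorem le_idealDepth_localization (r : ℕ) (hS : LocCoh.HasSk r S S) (p : Ideal R) [p.IsPrime] (d : ℕ)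
    (hdr : d ≤ r)
    (hht : ∀ Q : Ideal S, Q.IsPrime → Q.comap (algebraMap R S) = p → (d : ℕ∞) ≤ Q.height) :
    (d : ℕ∞) ≤ LocCoh.idealDepth
      (p.map (algebraMap R (Localization (Algebra.algebraMapSubmonoid S p.primeCompl))))
      (Localization (Algebra.algebraMapSubmonoid S p.primeCompl)) := by
  set T := Algebra.algebraMapSubmonoid S p.primeCompl
  rw [idealDepth_eq_iInf_depth]
  refine le_iInf₂ fun P hP => ?_
  let Q : Ideal S := P.asIdeal.comap (algebraMap S (Localization T))
  haveI : Q.IsPrime := Ideal.IsPrime.comap _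
  have hQp : Q.comap (algebraMap R S) = p := by
    have hdisj := ((IsLocalization.isPrime_iff_isPrime_disjoint T (Localization T) P.asIdeal).1 P.2).2
    refine le_antisymm (fun x hx => by_contra fun hxp => ?_) fun x hx => ?_
    · exact Set.disjoint_left.1 hdisj (Algebra.mem_algebraMapSubmonoid_of_mem (⟨x, hxp⟩ : p.primeCompl)) hx
    · show algebraMap S (Localization T) (algebraMap R S x) ∈ P.asIdeal
      rw [← IsScalarTower.algebraMap_apply]
      exact hP (Ideal.mem_map_of_mem _ hx)
  haveI : IsLocalization.AtPrime (Localization.AtPrime P.asIdeal) Q :=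
    IsLocalization.isLocalization_isLocalization_atPrime_isLocalization T (Localization.AtPrime P.asIdeal) P.asIdeal
  let e := (IsLocalization.algEquiv Q.primeCompl (Localization.AtPrime Q) (Localization.AtPrime P.asIdeal)).toRingEquiv
  rw [Groth.L04.depth_localizedModule_self, Groth.L06.FlatFibre.depth_eq_of_ringEquiv e]
  have h1 := (Groth.L06.FlatFibre.hasSk_self_iff r).1 hS Q
  rw [IsLocalization.AtPrime.ringKrullDim_eq_height Q (Localization.AtPrime Q)] at h1
  have h2 := hht Q inferInstance hQp
  exact WithBot.coe_le_coe.1 ((le_min (by exact_mod_cast hdr) (WithBot.coe_le_coe.2 h2)).trans h1)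

set_option linter.style.haveILetI false in
omit [Module R M] [Module S M] [AddCommGroup M] in
/-- Depth of a retract of an `(S_r)` algebra at a prime of the base. -/
theorem le_depth_of_retract (r : ℕ) (hS : LocCoh.HasSk r S S) (p : Ideal R) [p.IsPrime] (d : ℕ)
    (hdr : d ≤ r)
    (hht : ∀ Q : Ideal S, Q.IsPrime → Q.comap (algebraMap R S) = p → (d : ℕ∞) ≤ Q.height)
    {N : Type u} [AddCommGroup N] [Module R N] (i : N →ₗ[R] S) (π : S →ₗ[R] N) (hπ : ∀ x, π (i x) = x) :
    (d : ℕ∞) ≤ LocCoh.depth (Localization.AtPrime p) (LocalizedModule p.primeCompl N) := by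
  let T := Algebra.algebraMapSubmonoid S p.primeCompl
  obtain ⟨rs, hlen, hmem, hreg⟩ := exists_regular_of_le_idealDepth (R := R) (S := Localization T)
    (M := Localization T) p d (le_idealDepth_localization r hS p d hdr hht)
  let l : S →ₗ[R] Localization T := (Algebra.linearMap S (Localization T)).restrictScalars R
  haveI : IsLocalizedModule T (Algebra.linearMap S (Localization T)) :=
    (isLocalizedModule_iff_isLocalization' T (Localization T)).2 inferInstance
  haveI : IsLocalizedModule p.primeCompl l := IsLocalizedModule.restrictScalars p.primeCompl _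
  let i' := IsLocalizedModule.map p.primeCompl (LocalizedModule.mkLinearMap p.primeCompl N) l i
  let π' := IsLocalizedModule.map p.primeCompl l (LocalizedModule.mkLinearMap p.primeCompl N) π
  have hπ' : ∀ x, π' (i' x) = x := fun x => by
    induction x using LocalizedModule.induction_on with
    | h b s =>
      rw [IsLocalizedModule.mk_eq_mk']
      simp only [i', π', IsLocalizedModule.map_mk', hπ]
  have hN := isWeaklyRegular_retract i' π' hπ' hreg
  rw [← isWeaklyRegular_map_algebraMap_iff (Localization.AtPrime p)] at hN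
  rw [LocCoh.depth]
  refine le_trans (le_of_eq ?_) (Groth.L04.length_le_idealDepth hN fun x hx => ?_)
  · rw [List.length_map, hlen]
  · obtain ⟨y, hy, rfl⟩ := List.mem_map.1 hx
    exact (IsLocalization.AtPrime.to_map_mem_maximal_iff _ p y).2 (hmem y hy)

end Groth.L04.Conormal
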