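import Groth.Agent.L04.Conormal.Basic
import Groth.Prelude.Def_Rees
import Mathlib.RingTheory.GradedAlgebra.Radical
import Mathlib.RingTheory.ReesAlgebra

/-!
# Depth of conormal powers
-/

set_option autoImplicit false
set_option linter.style.haveILetI false
set_option backward.isDefEq.respectTransparency false
set_option backward.isDefEq.respectTransparency.types false
universe u

open Polynomial RingTheory.Sequence

noncomputable section

namespace Groth.L04.Conormal

open Groth.L22.DimFormula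

variable {R : Type u} [CommRing R] (I : Ideal R)

/-- `b X^n` in the Rees algebra. -/
def mono (n : ℕ) : ↥(I ^ n) →ₗ[R] ↥(reesAlgebra I) where
  toFun b := ⟨monomial n (b : R), reesAlgebra.monomial_mem.2 b.2⟩
  map_add' a b := Subtype.ext (by simp)
  map_smul' a b := Subtype.ext (by simp [smul_monomial])

/-- The degree zero coefficient. -/
def eps : ↥(reesAlgebra I) →+* R :=
  (Polynomial.constantCoeff : R[X] →+* R).comp (reesAlgebra I).val.toRingHom

variable {I}

theorem eps_algebraMap (r : R) : eps I (algebraMap R ↥(reesAlgebra I) r) = r :=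
  Polynomial.coeff_C_zero

theorem eps_surjective : Function.Surjective (eps I) := fun r => ⟨_, eps_algebraMap r⟩

theorem coeff_mem_mul {a : Ideal R} {x : ↥(reesAlgebra I)}
    (hx : x ∈ a.map (algebraMap R ↥(reesAlgebra I))) (n : ℕ) : (x : R[X]).coeff n ∈ a * I ^ n := by
  have hx' : x ∈ a • (⊤ : Submodule R ↥(reesAlgebra I)) := by
    rw [Ideal.smul_top_eq_map]; exact hx
  refine Submodule.smul_induction_on hx' (fun c hc y _ => ?_) fun y z hy hz => ?_
  · show ((c • y : ↥(reesAlgebra I)) : R[X]).coeff n ∈ _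
    rw [SetLike.val_smul, coeff_smul, smul_eq_mul]
    exact Ideal.mul_mem_mul hc (y.2 n)
  · show ((y + z : ↥(reesAlgebra I)) : R[X]).coeff n ∈ _
    rw [AddMemClass.coe_add, coeff_add]
    exact add_mem hy hz

theorem algebraMap_mem_deg (r : R) : algebraMap R ↥(reesAlgebra I) r ∈ Rees.deg (reesAlgebra I) 0 :=
  (Rees.mem_deg_iff _ 0 _).2 fun m hm => coeff_C_ne_zero hm

theorem mono_mem_deg (n : ℕ) (b : ↥(I ^ n)) : mono I n b ∈ Rees.deg (reesAlgebra I) n :=
  (Rees.mem_deg_iff _ n _).2 fun _ hm => coeff_monomial_of_ne _ hm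

theorem algebraMap_eps_mem {P : Ideal ↥(reesAlgebra I)} (hP : P.IsHomogeneous (Rees.deg (reesAlgebra I)))
    {x : ↥(reesAlgebra I)} (hx : x ∈ P) : algebraMap R ↥(reesAlgebra I) (eps I x) ∈ P := by
  classical
  have h := hP 0 hx
  have he : ((DirectSum.decompose (Rees.deg (reesAlgebra I)) x 0 : Rees.deg (reesAlgebra I) 0) :
      ↥(reesAlgebra I)) = algebraMap R ↥(reesAlgebra I) (eps I x) := by
    obtain ⟨s, hs⟩ : ∃ s : ↥(reesAlgebra I), s = x - algebraMap R ↥(reesAlgebra I) (eps I x) := ⟨_, rfl⟩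
    have hs0 : ((s : ↥(reesAlgebra I)) : R[X]).coeff 0 = 0 := by
      rw [hs, AddSubgroupClass.coe_sub, coeff_sub]
      exact sub_eq_zero.2 (eps_algebraMap (I := I) (eps I x)).symm
    have hsum : s = ∑ m ∈ (s : R[X]).support, mono I m ⟨(s : R[X]).coeff m, s.2 m⟩ := by
      refine Subtype.ext ?_
      rw [AddSubmonoidClass.coe_finsetSum]
      exact (Polynomial.sum_monomial_eq (s : R[X])).symm
    have hd : ((DirectSum.decompose (Rees.deg (reesAlgebra I)) s 0 : Rees.deg (reesAlgebra I) 0) :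
        ↥(reesAlgebra I)) = 0 := by
      rw [hsum, DirectSum.decompose_sum, DFinsupp.finset_sum_apply, AddSubmonoidClass.coe_finsetSum]
      refine Finset.sum_eq_zero fun m hm => DirectSum.decompose_of_mem_ne _ (mono_mem_deg m _) ?_
      rintro rfl
      exact (Polynomial.mem_support_iff.1 hm) hs0
    have hx' : x = algebraMap R ↥(reesAlgebra I) (eps I x) + s := by rw [hs]; ring
    conv_lhs => rw [hx', DirectSum.decompose_add, DirectSum.add_apply, AddMemClass.coe_add, hd, add_zero,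
      DirectSum.decompose_of_mem_same _ (algebraMap_mem_deg _)]
  rwa [he] at h

theorem mem_of_gens {P : Ideal ↥(reesAlgebra I)}
    (h : ∀ a (ha : a ∈ I), mono I 1 ⟨a, by rwa [pow_one]⟩ ∈ P) (x : ↥(reesAlgebra I)) :
    x - algebraMap R ↥(reesAlgebra I) (eps I x) ∈ P := by
  obtain ⟨x, hx⟩ := x
  have hx' : x ∈ Algebra.adjoin R (Submodule.map (monomial 1 : R →ₗ[R] R[X]) I : Set R[X]) := by
    rwa [adjoin_monomial_eq_reesAlgebra]
  revert hx
  induction hx' using Algebra.adjoin_induction with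
  | mem y hy =>
    intro hy'
    obtain ⟨a, ha, rfl⟩ := hy
    have he : eps I ⟨monomial 1 a, hy'⟩ = 0 := coeff_monomial_of_ne _ (by omega)
    rw [he, map_zero, sub_zero]
    exact h a ha
  | algebraMap r =>
    intro hr
    have : (⟨algebraMap R R[X] r, hr⟩ : ↥(reesAlgebra I)) = algebraMap R ↥(reesAlgebra I) r := rfl
    rw [this, eps_algebraMap, sub_self]
    exact zero_mem _
  | add y z hy hz ihy ihz =>
    intro hyz
    have hy' : y ∈ reesAlgebra I := by rwa [← adjoin_monomial_eq_reesAlgebra]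
    have hz' : z ∈ reesAlgebra I := by rwa [← adjoin_monomial_eq_reesAlgebra]
    have : (⟨y + z, hyz⟩ : ↥(reesAlgebra I)) = ⟨y, hy'⟩ + ⟨z, hz'⟩ := rfl
    rw [this, map_add, map_add, add_sub_add_comm]
    exact add_mem (ihy hy') (ihz hz')
  | mul y z hy hz ihy ihz =>
    intro hyz
    have hy' : y ∈ reesAlgebra I := by rwa [← adjoin_monomial_eq_reesAlgebra]
    have hz' : z ∈ reesAlgebra I := by rwa [← adjoin_monomial_eq_reesAlgebra]
    have : (⟨y * z, hyz⟩ : ↥(reesAlgebra I)) = ⟨y, hy'⟩ * ⟨z, hz'⟩ := rfl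
    rw [this, map_mul, map_mul]
    have h1 := P.mul_mem_right (⟨z, hz'⟩ : ↥(reesAlgebra I)) (ihy hy')
    have h2 := P.mul_mem_left (algebraMap R ↥(reesAlgebra I) (eps I ⟨y, hy'⟩)) (ihz hz')
    convert add_mem h1 h2 using 1
    ring

theorem height_add_length_le {α : Type*} [Preorder α] (l : LTSeries α) :
    Order.height l.head + l.length ≤ Order.height l.last := by
  have h : ∀ i : Fin (l.length + 1), Order.height l.head + i.1 ≤ Order.height (l i) := by
    intro i
    induction i using Fin.induction with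
    | zero => simp [RelSeries.head]
    | succ j ih =>
      refine le_trans ?_ (Order.height_add_one_le (l.step j))
      rw [Fin.val_succ, Nat.cast_add, Nat.cast_one, ← add_assoc]
      exact add_le_add ih le_rfl
  exact h (Fin.last _)

theorem height_map_mk_add_height_le [IsNoetherianRing R] (p : Ideal R) [p.IsPrime] (hp : I ≤ p) :
    (p.map (Ideal.Quotient.mk I)).height + I.height ≤ p.height := by
  haveI : (p.map (Ideal.Quotient.mk I)).IsPrime :=
    Ideal.map_isPrime_of_surjective Ideal.Quotient.mk_surjective (by rw [Ideal.mk_ker]; exact hp)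
  obtain ⟨s, hs, hn⟩ := (p.map (Ideal.Quotient.mk I)).exists_ltSeries_length_eq_height
  let l := LTSeries.map s (PrimeSpectrum.comap (Ideal.Quotient.mk I))
    (RingHom.strictMono_comap_of_surjective Ideal.Quotient.mk_surjective)
  have hlast : l.last = ⟨p, inferInstance⟩ := by
    show (LTSeries.map s _ _).last = _
    rw [LTSeries.last_map, hs]
    exact PrimeSpectrum.ext (Ideal.comap_map_mk hp)
  have hhead : I ≤ l.head.asIdeal := fun a ha => by
    have hh : l.head = PrimeSpectrum.comap (Ideal.Quotient.mk I) s.head := LTSeries.head_map _ _ _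
    rw [hh]
    show Ideal.Quotient.mk I a ∈ s.head.asIdeal
    rw [Ideal.Quotient.eq_zero_iff_mem.2 ha]
    exact zero_mem _
  have h := height_add_length_le l
  rw [hlast, ← PrimeSpectrum.height_eq_orderHeight, ← PrimeSpectrum.height_eq_orderHeight] at h
  rw [← hn, add_comm]
  exact (add_le_add (Ideal.height_mono hhead) le_rfl).trans h

theorem height_le_add_dim {A B C : Type u} [CommRing A] [IsNoetherianRing A] [CommRing B] [IsNoetherianRing B]
    [CommRing C] [Algebra A B] (π : C →+* B) (hπ : Function.Surjective π) (J : Ideal C) (m : Ideal A) [m.IsPrime]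
    (M : Ideal B) [M.IsPrime] [M.LiesOver m] (hJ : J.map π ≤ m.map (algebraMap A B)) :
    (M.height : WithBot ℕ∞) ≤ (m.height : WithBot ℕ∞) + ringKrullDim (C ⧸ J) := by
  have h := WithBot.coe_le_coe.2 (Ideal.height_le_height_add_of_liesOver m M)
  rw [WithBot.coe_add] at h
  have hmM : m.map (algebraMap A B) ≤ M := Ideal.map_le_iff_le_comap.2 (Ideal.over_def M m).le
  refine h.trans (add_le_add le_rfl ((Ideal.height_le_ringKrullDim_of_ne_top
    (Ideal.map_isPrime_of_surjective Ideal.Quotient.mk_surjective (by rw [Ideal.mk_ker]; exact hmM)).ne_top).trans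
    (ringKrullDim_le_of_surjective (Ideal.Quotient.lift J ((Ideal.Quotient.mk (m.map (algebraMap A B))).comp π)
      fun x hx => Ideal.Quotient.eq_zero_iff_mem.2 (hJ (Ideal.mem_map_of_mem _ hx))) fun y => ?_)))
  obtain ⟨z, rfl⟩ := Ideal.Quotient.mk_surjective y
  obtain ⟨w, rfl⟩ := hπ z
  exact ⟨Ideal.Quotient.mk _ w, Ideal.Quotient.lift_mk _ _ _⟩

/-- The height of a prime over `p` modulo a prime below it, from the fibre dimension. -/
theorem le_height_quot {R S : Type u} [CommRing R] [IsDomain R] [IsNoetherianRing R] [IsLocalRing R]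
    [CommRing S] [IsDomain S] [IsNoetherianRing S] [Algebra R S] (hcatR : CAlg.IsCatenary R)
    (hcatS : CAlg.IsCatenary S) (ε : S →+* R) (hε : ∀ r, ε (algebraMap R S r) = r)
    (p : Ideal R) [p.IsPrime] (P P0 : Ideal S) [P.IsPrime] [P0.IsPrime] (hPp : P.comap (algebraMap R S) = p)
    (h0 : P0 ≤ P) (hPM : P ≤ (IsLocalRing.maximalIdeal R).comap ε)
    (c : ℕ) (hK : (c : ℕ∞) ≤ (RingHom.ker ε).height) (hP0 : P0.height ≤ (c : ℕ∞)) (d : ℕ)
    (hd : (d : WithBot ℕ∞) + ringKrullDim (S ⧸ (IsLocalRing.maximalIdeal R).map (algebraMap R S)) ≤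
      ((p.height : ℕ∞) : WithBot ℕ∞)) :
    (d : ℕ∞) ≤ (P.map (Ideal.Quotient.mk P0)).height := by
  have hsurj : Function.Surjective ε := fun r => ⟨_, hε r⟩
  let m := IsLocalRing.maximalIdeal R
  let M : Ideal S := m.comap ε
  haveI : M.IsPrime := Ideal.IsPrime.comap _
  have hpm : p ≤ m := IsLocalRing.le_maximalIdeal (inferInstance : p.IsPrime).ne_top
  haveI : (RingHom.ker ε).IsPrime := RingHom.ker_isPrime _
  have hKM : RingHom.ker ε ≤ M := fun x hx => by
    show ε x ∈ m
    rw [RingHom.mem_ker.1 hx]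
    exact zero_mem _
  have e1 := height_map_mk_add_eq hcatS hPM
  have e2 := height_map_mk_add_eq hcatS h0
  have e3 := height_map_mk_add_eq hcatR hpm
  have e4 := height_map_mk_add_le hKM
  have hMK : (M.map (Ideal.Quotient.mk (RingHom.ker ε))).height = m.height := by
    have he : m.comap (RingHom.quotientKerEquivOfSurjective hsurj).toRingHom =
        M.map (Ideal.Quotient.mk (RingHom.ker ε)) := by
      ext y
      obtain ⟨y, rfl⟩ := Ideal.Quotient.mk_surjective y
      rw [Ideal.mem_quotient_iff_mem hKM]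
      exact Iff.rfl
    rw [← he]
    exact RingEquiv.height_comap _ m
  haveI : P.LiesOver p := ⟨hPp.symm⟩
  haveI : (m.map (Ideal.Quotient.mk p)).IsPrime := Ideal.map_isPrime_of_surjective Ideal.Quotient.mk_surjective
    (by rw [Ideal.mk_ker]; exact hpm)
  haveI : (M.map (Ideal.Quotient.mk P)).IsPrime := Ideal.map_isPrime_of_surjective Ideal.Quotient.mk_surjective
    (by rw [Ideal.mk_ker]; exact hPM)
  haveI : (M.map (Ideal.Quotient.mk P)).LiesOver (m.map (Ideal.Quotient.mk p)) := ⟨by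
    ext y
    obtain ⟨y, rfl⟩ := Ideal.Quotient.mk_surjective y
    rw [Ideal.mem_quotient_iff_mem hpm]
    show y ∈ m ↔ Ideal.Quotient.mk P (algebraMap R S y) ∈ M.map (Ideal.Quotient.mk P)
    rw [Ideal.mem_quotient_iff_mem hPM]
    show y ∈ m ↔ ε (algebraMap R S y) ∈ m
    rw [hε]⟩
  have e5 := height_le_add_dim (A := R ⧸ p) (B := S ⧸ P) (Ideal.Quotient.mk P) Ideal.Quotient.mk_surjective
    (m.map (algebraMap R S)) (m.map (Ideal.Quotient.mk p)) (M.map (Ideal.Quotient.mk P)) (le_of_eq (by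
      rw [Ideal.map_map, Ideal.map_map]
      rfl))
  haveI : (P.map (Ideal.Quotient.mk P0)).IsPrime := Ideal.map_isPrime_of_surjective
    Ideal.Quotient.mk_surjective (by rw [Ideal.mk_ker]; exact h0)
  have fin : ∀ {A : Type u} [CommRing A] [IsNoetherianRing A] (q : Ideal A) [q.IsPrime],
      ∃ n : ℕ, q.height = n := fun q _ => by
    obtain ⟨n, hn⟩ := ENat.ne_top_iff_exists.1 (Ideal.height_ne_top_of_isPrime (I := q))
    exact ⟨n, hn.symm⟩
  obtain ⟨hM, hM'⟩ := fin M
  obtain ⟨hPn, hPn'⟩ := fin P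
  obtain ⟨hm, hm'⟩ := fin m
  obtain ⟨hpn, hpn'⟩ := fin p
  obtain ⟨h0n, h0n'⟩ := fin P0
  obtain ⟨hKn, hKn'⟩ := fin (RingHom.ker ε)
  obtain ⟨hmAn, hmAn'⟩ := fin (m.map (Ideal.Quotient.mk p))
  obtain ⟨hMBn, hMBn'⟩ := fin (M.map (Ideal.Quotient.mk P))
  obtain ⟨hqn, hqn'⟩ := fin (P.map (Ideal.Quotient.mk P0))
  rw [hMBn', hPn', hM'] at e1
  rw [hqn', h0n', hPn'] at e2
  rw [hmAn', hpn', hm'] at e3
  rw [hMK, hm', hKn', hM'] at e4
  rw [hKn'] at hK
  rw [h0n'] at hP0
  norm_cast at e1 e2 e3 e4 hK hP0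
  have hd' : d + hMBn ≤ hmAn + hpn := by
    rw [hMBn', hmAn'] at e5
    rw [hpn'] at hd
    have h1 : ((d + hMBn : ℕ) : WithBot ℕ∞) ≤ ((hmAn + hpn : ℕ) : WithBot ℕ∞) := by
      rw [Nat.cast_add, Nat.cast_add]
      exact (add_le_add (le_refl (d : WithBot ℕ∞)) e5).trans ((le_of_eq (add_left_comm _ _ _)).trans
        (add_le_add le_rfl hd))
    exact_mod_cast h1
  rw [hqn']
  exact_mod_cast (show d ≤ hqn by omega)

theorem height_le_height_comap {A B : Type u} [CommRing A] [CommRing B] {f : A →+* B}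
    (hf : Function.Surjective f) (q : Ideal B) [hq : q.IsPrime] : q.height ≤ (q.comap f).height := by
  have h1 := PrimeSpectrum.height_eq_orderHeight (⟨q, hq⟩ : PrimeSpectrum B)
  have h2 := PrimeSpectrum.height_eq_orderHeight (PrimeSpectrum.comap f ⟨q, hq⟩)
  refine h1.le.trans (le_trans ?_ h2.ge)
  exact Order.height_le_height_apply_of_strictMono _ (RingHom.strictMono_comap_of_surjective hf) _

/-- Heights in a smaller quotient are smaller. -/
theorem height_quot_le {S : Type u} [CommRing S] (J P0 P : Ideal S) [P.IsPrime] (h0 : J ≤ P0) (hP : P0 ≤ P)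
    (Q' : Ideal (S ⧸ J)) [Q'.IsPrime] (hPQ : P ≤ Q'.comap (Ideal.Quotient.mk J)) :
    (P.map (Ideal.Quotient.mk P0)).height ≤ Q'.height := by
  haveI : (P.map (Ideal.Quotient.mk P0)).IsPrime := Ideal.map_isPrime_of_surjective
    Ideal.Quotient.mk_surjective (by rw [Ideal.mk_ker]; exact hP)
  have hf := Ideal.Quotient.factor_surjective h0
  haveI : ((P.map (Ideal.Quotient.mk P0)).comap (Ideal.Quotient.factor h0)).IsPrime := Ideal.IsPrime.comap _
  refine le_trans ?_ (Ideal.height_mono (show (P.map (Ideal.Quotient.mk P0)).comap (Ideal.Quotient.factor h0) ≤ Q'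
    from fun y hy => by
      obtain ⟨y, rfl⟩ := Ideal.Quotient.mk_surjective y
      exact hPQ ((Ideal.mem_quotient_iff_mem hP).1 hy)))
  exact height_le_height_comap hf _

section Main

variable [IsDomain R] [IsNoetherianRing R] {p : Ideal R} [p.IsPrime]

omit [IsDomain R] [IsNoetherianRing R] in
theorem isHomogeneous_of_minimal {P : Ideal ↥(reesAlgebra I)}
    (hP : P ∈ (p.map (algebraMap R ↥(reesAlgebra I))).minimalPrimes) :
    P.IsHomogeneous (Rees.deg (reesAlgebra I)) := by
  haveI := hP.1.1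
  have hle : (P.homogeneousCore (Rees.deg (reesAlgebra I))).toIdeal ≤ P := Ideal.toIdeal_homogeneousCore_le _ _
  have heq : P ≤ (P.homogeneousCore (Rees.deg (reesAlgebra I))).toIdeal :=
    hP.2 ⟨Ideal.IsPrime.homogeneousCore (hP.1.1), Ideal.map_le_iff_le_comap.2 fun r hr =>
      Ideal.mem_homogeneousCore_of_homogeneous_of_mem ⟨0, algebraMap_mem_deg r⟩
        (hP.1.2 (Ideal.mem_map_of_mem _ hr))⟩ hle
  rw [le_antisymm heq hle]
  exact HomogeneousIdeal.isHomogeneous _

theorem exists_gen_notMem (hI : I ≠ ⊥) {P : Ideal ↥(reesAlgebra I)}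
    (hP : P ∈ (p.map (algebraMap R ↥(reesAlgebra I))).minimalPrimes)
    (hPp : P.comap (algebraMap R ↥(reesAlgebra I)) = p) :
    ∃ (a : R) (ha : a ∈ I), mono I 1 ⟨a, by rwa [pow_one]⟩ ∉ P := by
  classical
  by_contra hcon
  push Not at hcon
  haveI := hP.1.1
  have hmemP : ∀ x : ↥(reesAlgebra I), eps I x ∈ p → x ∈ P := fun x hx => by
    have h := add_mem (mem_of_gens hcon x)
      (show algebraMap R ↥(reesAlgebra I) (eps I x) ∈ P by rw [← Ideal.mem_comap, hPp]; exact hx)
    rwa [sub_add_cancel] at h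
  let T := Algebra.algebraMapSubmonoid ↥(reesAlgebra I) p.primeCompl
  let f := algebraMap ↥(reesAlgebra I) (Localization T)
  let K : Ideal (Localization T) :=
    Ideal.span (Set.range fun a : ↥(I ^ 1) => f (mono I 1 a))
  let pT : Ideal (Localization T) := (p.map (algebraMap R ↥(reesAlgebra I))).map f
  have hK : K ≤ pT.radical := by
    rw [Ideal.span_le, Ideal.radical_eq_sInf]
    rintro _ ⟨a, rfl⟩
    refine Ideal.mem_sInf.2 fun {Q'} ⟨hle, hQ'⟩ => ?_
    let Q := Q'.comap f
    haveI : Q.IsPrime := Ideal.IsPrime.comap _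
    have hdisj := ((IsLocalization.isPrime_iff_isPrime_disjoint T (Localization T) Q').1 hQ').2
    have hQp : ∀ r, algebraMap R ↥(reesAlgebra I) r ∈ Q → r ∈ p := fun r hr => by_contra fun hrp =>
      Set.disjoint_left.1 hdisj (Algebra.mem_algebraMapSubmonoid_of_mem (⟨r, hrp⟩ : p.primeCompl)) hr
    have hpQ : p.map (algebraMap R ↥(reesAlgebra I)) ≤ Q := Ideal.map_le_iff_le_comap.1 hle
    let C := (Q.homogeneousCore (Rees.deg (reesAlgebra I))).toIdeal
    have hpC : p.map (algebraMap R ↥(reesAlgebra I)) ≤ C := Ideal.map_le_iff_le_comap.2 fun r hr =>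
      Ideal.mem_homogeneousCore_of_homogeneous_of_mem ⟨0, algebraMap_mem_deg r⟩
        (hpQ (Ideal.mem_map_of_mem _ hr))
    have hCP : C ≤ P := fun x hx => hmemP x (hQp _ (Ideal.toIdeal_homogeneousCore_le _ Q
      (algebraMap_eps_mem (HomogeneousIdeal.isHomogeneous _) hx)))
    have haP : mono I 1 a ∈ P := hcon a.1 (by simpa using a.2)
    exact Ideal.toIdeal_homogeneousCore_le _ Q
      (hP.2 ⟨Ideal.IsPrime.homogeneousCore inferInstance, hpC⟩ hCP haP)
  obtain ⟨N, hN⟩ := Ideal.exists_pow_le_of_le_radical_of_fg hK (IsNoetherian.noetherian K)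
  have hmono : ∀ n (b : ↥(I ^ n)), f (mono I n b) ∈ K ^ n := by
    intro n
    induction n with
    | zero =>
      intro b
      exact (pow_zero K).ge (by rw [Ideal.one_eq_top]; trivial)
    | succ n ih =>
      rintro ⟨b, hb⟩
      have hb' : b ∈ I ^ n * I := (pow_succ I n).le hb
      suffices ∃ h : b ∈ I ^ (n + 1), f (mono I (n + 1) ⟨b, h⟩) ∈ K ^ (n + 1) from this.2
      refine Submodule.mul_induction_on hb' (fun x hx y hy => ?_) fun x y hx hy => ?_
      · have hxy : x * y ∈ I ^ (n + 1) := (pow_succ I n).ge (Ideal.mul_mem_mul hx hy)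
        refine ⟨hxy, ?_⟩
        have : mono I (n + 1) ⟨x * y, hxy⟩ = mono I n ⟨x, hx⟩ * mono I 1 ⟨y, (pow_one I).ge hy⟩ :=
          Subtype.ext (monomial_mul_monomial n 1 x y).symm
        rw [this, map_mul]
        exact (pow_succ K n).ge (Ideal.mul_mem_mul (ih _) (Ideal.subset_span ⟨_, rfl⟩))
      · obtain ⟨hx', hx''⟩ := hx
        obtain ⟨hy', hy''⟩ := hy
        refine ⟨add_mem hx' hy', ?_⟩
        have : mono I (n + 1) ⟨x + y, add_mem hx' hy'⟩ = mono I (n + 1) ⟨x, hx'⟩ + mono I (n + 1) ⟨y, hy'⟩ := by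
          rw [← map_add]
          rfl
        rw [this, map_add]
        exact add_mem hx'' hy''
  have hloc : ∀ b : ↥(I ^ N), ∃ t ∉ p, t * (b : R) ∈ p * I ^ N := fun b => by
    obtain ⟨⟨c, ⟨_, t, ht, rfl⟩⟩, hc⟩ := (IsLocalization.mem_map_algebraMap_iff T (Localization T)).1
      (hN (hmono N b))
    obtain ⟨⟨_, t', ht', rfl⟩, he⟩ := (IsLocalization.eq_iff_exists T (Localization T)).1
      ((map_mul f _ _).trans hc : f (mono I N b * algebraMap R ↥(reesAlgebra I) t) = f c)
    refine ⟨t' * t, fun h => ((inferInstance : p.IsPrime).mem_or_mem h).elim ht' ht, ?_⟩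
    have hmem : algebraMap R ↥(reesAlgebra I) t' * (mono I N b * algebraMap R ↥(reesAlgebra I) t) ∈
        p.map (algebraMap R ↥(reesAlgebra I)) := by
      rw [he]
      exact Ideal.mul_mem_left _ _ c.2
    have h := coeff_mem_mul hmem N
    have hval : ((algebraMap R ↥(reesAlgebra I) t' * (mono I N b * algebraMap R ↥(reesAlgebra I) t) :
        ↥(reesAlgebra I)) : R[X]).coeff N = t' * t * (b : R) := by
      show (C t' * (monomial N (b : R) * C t)).coeff N = _
      rw [coeff_C_mul, coeff_mul_C, coeff_monomial_same]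
      ring
    rwa [hval] at h
  let g := algebraMap R (Localization.AtPrime p)
  have hJ : (I ^ N).map g = ⊥ := by
    refine Submodule.eq_bot_of_le_smul_of_le_jacobson_bot (IsLocalRing.maximalIdeal (Localization.AtPrime p))
      _ (IsNoetherian.noetherian _) ?_ (IsLocalRing.maximalIdeal_le_jacobson _)
    rw [smul_eq_mul, ← Localization.AtPrime.map_eq_maximalIdeal, ← Ideal.map_mul, Ideal.map_le_iff_le_comap]
    intro b hb
    obtain ⟨t, ht, hb'⟩ := hloc ⟨b, hb⟩
    have hu : IsUnit (g t) := IsLocalization.map_units (Localization.AtPrime p) (⟨t, ht⟩ : p.primeCompl)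
    exact (Ideal.unit_mul_mem_iff_mem _ hu).1 (by rw [← map_mul]; exact Ideal.mem_map_of_mem _ hb')
  have h0 : I ^ N = ⊥ := (Ideal.map_eq_bot_iff_of_injective
    (IsLocalization.injective (Localization.AtPrime p) p.primeCompl_le_nonZeroDivisors)).1 hJ
  exact hI (eq_zero_of_pow_eq_zero (show I ^ N = 0 from h0))

theorem le_height_of_prime [IsLocalRing R] (huc : CAlg.IsUniversallyCatenary R) (hp : I ≤ p) (d : ℕ)
    (hd : (d : WithBot ℕ∞) + ringKrullDim (↥(reesAlgebra I) ⧸ Ideal.map (algebraMap R ↥(reesAlgebra I))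
      (IsLocalRing.maximalIdeal R)) ≤ (((p.map (Ideal.Quotient.mk I)).height : ℕ∞) : WithBot ℕ∞) +
        ((I.height : ℕ∞) : WithBot ℕ∞))
    (Q' : Ideal (↥(reesAlgebra I) ⧸ I.map (algebraMap R ↥(reesAlgebra I)))) [Q'.IsPrime]
    (hQ : Q'.comap (algebraMap R (↥(reesAlgebra I) ⧸ I.map (algebraMap R ↥(reesAlgebra I)))) = p) :
    (d : ℕ∞) ≤ @Ideal.height (↥(reesAlgebra I) ⧸ I.map (algebraMap R ↥(reesAlgebra I))) _ Q' := by
  classical
  let IS : Ideal ↥(reesAlgebra I) := I.map (algebraMap R ↥(reesAlgebra I))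
  let Q : Ideal ↥(reesAlgebra I) := Q'.comap (Ideal.Quotient.mk IS)
  haveI : Q.IsPrime := Ideal.IsPrime.comap _
  have hQp : Q.comap (algebraMap R ↥(reesAlgebra I)) = p := hQ
  have hpQ : p.map (algebraMap R ↥(reesAlgebra I)) ≤ Q := Ideal.map_le_iff_le_comap.2 hQp.ge
  obtain ⟨P, hP, hPQ⟩ := Ideal.exists_minimalPrimes_le hpQ
  haveI := hP.1.1
  have hPp : P.comap (algebraMap R ↥(reesAlgebra I)) = p :=
    le_antisymm ((Ideal.comap_mono hPQ).trans hQp.le) (Ideal.map_le_iff_le_comap.1 hP.1.2)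
  have hhom := isHomogeneous_of_minimal hP
  let m := IsLocalRing.maximalIdeal R
  let M : Ideal ↥(reesAlgebra I) := m.comap (eps I)
  haveI : M.IsPrime := Ideal.IsPrime.comap _
  have hPM : P ≤ M := fun x hx => by
    have := algebraMap_eps_mem hhom hx
    rw [← Ideal.mem_comap, hPp] at this
    exact IsLocalRing.le_maximalIdeal (inferInstance : p.IsPrime).ne_top this
  have hISP : IS ≤ P := (Ideal.map_mono hp).trans hP.1.2
  obtain ⟨P0, hP0, hP0P⟩ := Ideal.exists_minimalPrimes_le hISP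
  haveI := hP0.1.1
  let K := RingHom.ker (eps I)
  haveI : K.IsPrime := RingHom.ker_isPrime _
  -- the height of the comparison prime
  have e7 : (P.map (Ideal.Quotient.mk P0)).height ≤
      @Ideal.height (↥(reesAlgebra I) ⧸ I.map (algebraMap R ↥(reesAlgebra I))) _ Q' :=
    height_quot_le (S := ↥(reesAlgebra I)) IS P0 P hP0.1.2 hP0P Q' hPQ
  -- the correction term
  obtain ⟨ε, hε, hK, hP0h⟩ : ∃ ε : ℕ, ε ≤ 1 ∧ (ε : ℕ∞) ≤ K.height ∧ P0.height ≤ (ε : ℕ∞) := by
    rcases eq_or_ne I ⊥ with h0 | h0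
    · refine ⟨0, zero_le_one, zero_le, le_of_eq ?_⟩
      have hIS : IS = ⊥ := by simp [IS, h0]
      rw [hIS, Ideal.minimalPrimes_eq_subsingleton_self] at hP0
      rw [Set.mem_singleton_iff.1 hP0]
      simp [Ideal.height_bot]
    · obtain ⟨a, ha, haP⟩ := exists_gen_notMem h0 hP hPp
      refine ⟨1, le_rfl, ?_, ?_⟩
      · have hK0 : (⊥ : Ideal ↥(reesAlgebra I)) < K := by
          rw [bot_lt_iff_ne_bot]
          intro hK
          apply haP
          have : mono I 1 ⟨a, by rwa [pow_one]⟩ ∈ K := RingHom.mem_ker.2 (coeff_monomial_of_ne _ (by omega))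
          rw [hK, Ideal.mem_bot] at this
          rw [this]
          exact zero_mem _
        exact le_trans (by simp) (Ideal.height_add_one_le_of_lt_of_isPrime hK0)
      · have haI : algebraMap R ↥(reesAlgebra I) a ∈ IS := Ideal.mem_map_of_mem _ ha
        haveI : (Ideal.span {algebraMap R ↥(reesAlgebra I) a}).IsPrincipal := ⟨⟨_, rfl⟩⟩
        refine Ideal.height_le_one_of_isPrincipal_of_mem_minimalPrimes
          (Ideal.span {algebraMap R ↥(reesAlgebra I) a}) P0
          ⟨⟨inferInstance, (Ideal.span_singleton_le_iff_mem _).2 (hP0.1.2 haI)⟩, fun P' ⟨hP', haP'⟩ hle => ?_⟩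
        refine hP0.2 ⟨hP', Ideal.map_le_iff_le_comap.2 fun b hb => ?_⟩ hle
        have h1 : mono I 1 ⟨a, by rwa [pow_one]⟩ * algebraMap R ↥(reesAlgebra I) b ∈ P' := by
          have he : mono I 1 ⟨a, by rwa [pow_one]⟩ * algebraMap R ↥(reesAlgebra I) b =
              mono I 1 ⟨b, by rwa [pow_one]⟩ * algebraMap R ↥(reesAlgebra I) a :=
            Subtype.ext (show monomial 1 a * C b = monomial 1 b * C a by
              rw [monomial_mul_C, monomial_mul_C, mul_comm])
          rw [he]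
          exact P'.mul_mem_left _ ((Ideal.span_singleton_le_iff_mem _).1 haP')
        exact (hP'.mem_or_mem h1).resolve_left fun h => haP (hP0P (hle h))
  refine (le_height_quot (R := R) (S := ↥(reesAlgebra I)) (huc.2 R inferInstance) (huc.2 _ inferInstance)
    (eps I) eps_algebraMap p P P0 hPp hP0P hPM ε hK hP0h d (hd.trans ?_)).trans e7
  rw [← WithBot.coe_add]
  exact WithBot.coe_le_coe.2 (height_map_mk_add_height_le p hp)

theorem le_depth_conormal [IsLocalRing R] (huc : CAlg.IsUniversallyCatenary R) (r : ℕ)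
    (hS : LocCoh.HasSk r (↥(reesAlgebra I) ⧸ Ideal.map (algebraMap R ↥(reesAlgebra I)) I)
      (↥(reesAlgebra I) ⧸ Ideal.map (algebraMap R ↥(reesAlgebra I)) I))
    (n : ℕ) (hp : I ≤ p) (d : ℕ) (hdr : d ≤ r)
    (hd : (d : WithBot ℕ∞) + ringKrullDim (↥(reesAlgebra I) ⧸ Ideal.map (algebraMap R ↥(reesAlgebra I))
      (IsLocalRing.maximalIdeal R)) ≤ (((p.map (Ideal.Quotient.mk I)).height : ℕ∞) : WithBot ℕ∞) +
        ((I.height : ℕ∞) : WithBot ℕ∞)) :
    (d : ℕ∞) ≤ LocCoh.depth (Localization.AtPrime p)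
      (LocalizedModule p.primeCompl (↥(I ^ n) ⧸ (I • (⊤ : Submodule R ↥(I ^ n))))) := by
  let G := ↥(reesAlgebra I) ⧸ Ideal.map (algebraMap R ↥(reesAlgebra I)) I
  let i : (↥(I ^ n) ⧸ (I • (⊤ : Submodule R ↥(I ^ n)))) →ₗ[R] G :=
    Submodule.liftQ _ ((Ideal.Quotient.mkₐ R _).toLinearMap.comp (mono I n)) (Submodule.smul_le.2 fun c hc x _ => by
      rw [LinearMap.mem_ker]
      show Ideal.Quotient.mk _ (mono I n (c • x)) = 0
      rw [map_smul (mono I n), Algebra.smul_def]
      exact Ideal.Quotient.eq_zero_iff_mem.2 (Ideal.mul_mem_right _ _ (Ideal.mem_map_of_mem _ hc)))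
  let co : ↥(reesAlgebra I) →ₗ[R] ↥(I ^ n) :=
    { toFun := fun x => ⟨(x : R[X]).coeff n, x.2 n⟩
      map_add' := fun x y => Subtype.ext (by simp)
      map_smul' := fun c x => Subtype.ext (by simp) }
  let π : G →ₗ[R] (↥(I ^ n) ⧸ (I • (⊤ : Submodule R ↥(I ^ n)))) :=
    (Submodule.liftQ ((Ideal.map (algebraMap R ↥(reesAlgebra I)) I).restrictScalars R)
      ((Submodule.mkQ _).comp co) (fun x hx => by
        rw [LinearMap.mem_ker, LinearMap.comp_apply, Submodule.mkQ_apply, Submodule.Quotient.mk_eq_zero,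
          Submodule.mem_smul_top_iff]
        rw [smul_eq_mul]
        exact coeff_mem_mul hx n)).comp
      (Submodule.Quotient.restrictScalarsEquiv R (Ideal.map (algebraMap R ↥(reesAlgebra I)) I)).symm.toLinearMap
  have hπ : ∀ x, π (i x) = x := fun x => by
    obtain ⟨b, rfl⟩ := Submodule.mkQ_surjective _ x
    show Submodule.Quotient.mk (co (mono I n b)) = Submodule.Quotient.mk b
    congr 1
    exact Subtype.ext (coeff_monomial_same n (b : R))
  exact le_depth_of_retract (R := R) (S := G) r hS p d hdr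
    (fun Q hQ hQp => @le_height_of_prime R _ I _ _ p _ _ huc hp d hd Q hQ hQp) i π hπ

end Main

end Groth.L04.Conormal
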